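import Mathlib

/-!
# The Fourier transform on the outer layer of a homocyclic group of rank two

`D` is a finite abelian group with four elements of square one and `g` a fixed-point-free
automorphism of order three.  For an invariant function `F` whose Fourier coefficients
`w χ = |D|⁻¹ ∑ F u * χ u` are integers, the sum over the non-squares is
`3|D|/4 * q` with `q = w 1 - w ν`, `ν` of order two; for real `F` the parity of `q` is that of
`F 1` (`even_iff`), and `q = ± 1` as soon as `F` is bounded by one and not zero there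
(`abs_eq_one`).
-/

set_option autoImplicit false
set_option linter.style.haveILetI false
set_option linter.unusedSectionVars false

namespace Cfsg.Agent.Lib.HomocyclicFree.Fourier

open scoped ComplexConjugate

universe u

variable {D : Type u} [CommGroup D] [Fintype D] [Fintype (D →* ℂˣ)]

theorem card_dual : Fintype.card (D →* ℂˣ) = Fintype.card D := by
  have := Monoid.neZero_exponent_of_finite (G := D)
  rw [← Nat.card_eq_fintype_card, ← Nat.card_eq_fintype_card]
  exact CommGroup.card_monoidHom_of_hasEnoughRootsOfUnity _ ℂ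

theorem conj_apply (χ : D →* ℂˣ) (u : D) : conj ((χ u : ℂˣ) : ℂ) = ((χ⁻¹ u : ℂˣ) : ℂ) := by
  rw [MonoidHom.inv_apply, Units.val_inv_eq_inv_val]
  refine (Complex.inv_eq_conj (Complex.norm_eq_one_of_pow_eq_one ?_ (orderOf_pos u).ne')).symm
  rw [← Units.val_pow_eq_pow_val, ← map_pow, pow_orderOf_eq_one, map_one, Units.val_one]

open scoped Classical in
theorem sum_dual (z : D) :
    ∑ χ : D →* ℂˣ, ((χ z : ℂˣ) : ℂ) = if z = 1 then (Fintype.card D : ℂ) else 0 := by
  split_ifs with hz
  · simp [hz, card_dual]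
  · have := Monoid.neZero_exponent_of_finite (G := D)
    obtain ⟨φ, hφ⟩ := CommGroup.exists_apply_ne_one_of_hasEnoughRootsOfUnity D ℂ hz
    have h : ((φ z : ℂˣ) : ℂ) * ∑ χ : D →* ℂˣ, ((χ z : ℂˣ) : ℂ) =
        ∑ χ : D →* ℂˣ, ((χ z : ℂˣ) : ℂ) := by
      rw [Finset.mul_sum]
      exact Fintype.sum_equiv (Equiv.mulLeft φ) _ _ fun χ => by
        simp [MonoidHom.mul_apply]
    by_contra hne
    exact hφ (Units.ext (mul_right_cancel₀ hne (h.trans (one_mul _).symm)))

theorem dual_assoc (a b c : D →* ℂˣ) : a * b * c = a * (b * c) := mul_assoc a b c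

theorem dual_comm (a b : D →* ℂˣ) : a * b = b * a := mul_comm a b

theorem dual_one_mul (a : D →* ℂˣ) : 1 * a = a := one_mul a

theorem dual_mul_one (a : D →* ℂˣ) : a * 1 = a := mul_one a

theorem dual_inv_mul_cancel_left (a b : D →* ℂˣ) : a⁻¹ * (a * b) = b := inv_mul_cancel_left a b

theorem dual_mul_left_cancel {a b c : D →* ℂˣ} (h : a * b = a * c) : b = c := mul_left_cancel h

/-- The Fourier transform. -/
noncomputable def four (F : D → ℂ) (χ : D →* ℂˣ) : ℂ := ∑ u, F u * ((χ u : ℂˣ) : ℂ)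

/-- Inversion. -/
theorem sum_four_mul (F : D → ℂ) (u : D) :
    ∑ χ : D →* ℂˣ, four F χ * conj ((χ u : ℂˣ) : ℂ) = (Fintype.card D : ℂ) * F u := by
  classical
  simp only [four, Finset.sum_mul]
  rw [Finset.sum_comm]
  have h : ∀ v : D, ∑ χ : D →* ℂˣ, F v * ((χ v : ℂˣ) : ℂ) * conj ((χ u : ℂˣ) : ℂ) =
      if v = u then (Fintype.card D : ℂ) * F u else 0 := by
    intro v
    have e : ∀ χ : D →* ℂˣ, F v * ((χ v : ℂˣ) : ℂ) * conj ((χ u : ℂˣ) : ℂ) =
        F v * ((χ (v * u⁻¹) : ℂˣ) : ℂ) := fun χ => by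
      rw [conj_apply, MonoidHom.inv_apply, map_mul, map_inv, Units.val_mul, mul_assoc]
    rw [Finset.sum_congr rfl fun χ _ => e χ, ← Finset.mul_sum, sum_dual]
    by_cases hvu : v = u
    · subst hvu; simp [mul_comm]
    · rw [if_neg hvu, if_neg (fun e => hvu (mul_inv_eq_one.mp e)), mul_zero]
  rw [Finset.sum_congr rfl fun v _ => h v, Finset.sum_ite_eq' Finset.univ u, if_pos
    (Finset.mem_univ u)]

/-- Parseval. -/
theorem sum_normSq_four (F : D → ℂ) :
    ∑ χ : D →* ℂˣ, Complex.normSq (four F χ) = Fintype.card D * ∑ u, Complex.normSq (F u) := by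
  apply Complex.ofReal_injective
  push_cast
  simp only [← Complex.mul_conj]
  rw [Finset.mul_sum]
  calc ∑ χ : D →* ℂˣ, four F χ * conj (four F χ)
      = ∑ χ : D →* ℂˣ, ∑ u, four F χ * conj ((χ u : ℂˣ) : ℂ) * conj (F u) := by
        refine Finset.sum_congr rfl fun χ _ => ?_
        conv_lhs => arg 2; rw [four, map_sum]
        rw [Finset.mul_sum]
        refine Finset.sum_congr rfl fun u _ => ?_
        rw [map_mul]; ring
    _ = _ := by
        rw [Finset.sum_comm]
        refine Finset.sum_congr rfl fun u _ => ?_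
        rw [← Finset.sum_mul, sum_four_mul]
        ring

/-- The hypotheses: four elements of square one and a fixed-point-free automorphism of order
three. -/
structure Data (g : MulAut D) : Prop where
  fix : ∀ u, g u = u → u = 1
  cube : g ^ 3 = 1
  two : Nat.card {u : D // u ^ 2 = 1} = 4

open scoped Classical in
/-- The non-squares. -/
noncomputable def out (D : Type u) [CommGroup D] [Fintype D] : Finset D :=
  Finset.univ.filter fun u => ¬ ∃ x, x ^ 2 = u

theorem mem_out {u : D} : u ∈ out D ↔ ¬ ∃ x, x ^ 2 = u := by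
  classical simp [out]

theorem ne_one_of_mem_out {u : D} (h : u ∈ out D) : u ≠ 1 := fun e =>
  mem_out.mp h ⟨1, by rw [one_pow, e]⟩

variable {g : MulAut D}

/-- The action on the dual. -/
noncomputable def act (g : MulAut D) (χ : D →* ℂˣ) : D →* ℂˣ := χ.comp g.toMonoidHom

theorem act_apply (χ : D →* ℂˣ) (u : D) : act g χ u = χ (g u) := rfl

theorem act_mul (χ χ' : D →* ℂˣ) : act g (χ * χ') = act g χ * act g χ' := rfl

theorem act_one : act g (1 : D →* ℂˣ) = 1 := rfl

theorem act_act_act (hg : Data g) (χ : D →* ℂˣ) : act g (act g (act g χ)) = χ := by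
  refine MonoidHom.ext fun u => ?_
  simp only [act_apply]
  have h : g (g (g u)) = (g ^ 3) u := rfl
  rw [h, hg.cube]
  rfl

theorem act_fix (hg : Data g) {χ : D →* ℂˣ} (h : act g χ = χ) : χ = 1 := by
  refine MonoidHom.ext fun v => ?_
  let φ : D →* D :=
    { toFun := fun u => g u * u⁻¹
      map_one' := by simp
      map_mul' := fun a b => by rw [map_mul, mul_inv, mul_mul_mul_comm] }
  have hinj : Function.Injective φ := (injective_iff_map_eq_one φ).mpr fun u hu =>
    hg.fix u (mul_inv_eq_one.mp hu)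
  obtain ⟨u, hu⟩ := Finite.injective_iff_surjective.mp hinj v
  have h1 := DFunLike.congr_fun h u
  rw [act_apply] at h1
  rw [← hu, MonoidHom.one_apply]
  show χ (g u * u⁻¹) = 1
  rw [map_mul, map_inv, h1, mul_inv_cancel]

open scoped Classical in
/-- The characters of order at most two. -/
noncomputable def V (D : Type u) [CommGroup D] [Fintype (D →* ℂˣ)] : Finset (D →* ℂˣ) :=
  Finset.univ.filter fun μ => μ * μ = 1

theorem mem_V {μ : D →* ℂˣ} : μ ∈ V D ↔ μ * μ = 1 := by
  classical simp [V]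

theorem one_mem_V : (1 : D →* ℂˣ) ∈ V D := mem_V.mpr (one_mul (1 : D →* ℂˣ))

theorem mul_mem_V {a b : D →* ℂˣ} (ha : a ∈ V D) (hb : b ∈ V D) : a * b ∈ V D := by
  rw [mem_V] at ha hb ⊢
  exact (mul_mul_mul_comm a b a b).trans (by rw [ha, hb]; exact one_mul (1 : D →* ℂˣ))

theorem act_mem_V {μ : D →* ℂˣ} (h : μ ∈ V D) : act g μ ∈ V D := by
  rw [mem_V] at h ⊢
  rw [← act_mul, h, act_one]

theorem card_V (hg : Data g) : (V D).card = 4 := by
  classical
  have := Monoid.neZero_exponent_of_finite (G := D)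
  obtain ⟨e⟩ := CommGroup.monoidHom_mulEquiv_of_hasEnoughRootsOfUnity D ℂ
  rw [← hg.two, V, ← Fintype.card_subtype, ← Nat.card_eq_fintype_card]
  refine Nat.card_congr (e.toEquiv.subtypeEquiv fun μ => ?_)
  rw [sq]
  show μ * μ = 1 ↔ e μ * e μ = 1
  rw [← map_mul]
  exact ⟨fun h => by rw [h, map_one], fun h => e.injective (h.trans (map_one e).symm)⟩

/-- A nontrivial character of order two and its conjugates. -/
theorem V_eq (hg : Data g) {μ : D →* ℂˣ} (hμ : μ ∈ V D) (h1 : μ ≠ 1) [DecidableEq (D →* ℂˣ)] :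
    V D = {1, μ, act g μ, act g (act g μ)} ∧
      (1 : D →* ℂˣ) ∉ ({μ, act g μ, act g (act g μ)} : Finset (D →* ℂˣ)) ∧
      μ ∉ ({act g μ, act g (act g μ)} : Finset (D →* ℂˣ)) ∧
      act g μ ∉ ({act g (act g μ)} : Finset (D →* ℂˣ)) := by
  have hsub : ({1, μ, act g μ, act g (act g μ)} : Finset (D →* ℂˣ)) ⊆ V D := by
    intro x hx
    simp only [Finset.mem_insert, Finset.mem_singleton] at hx
    rcases hx with rfl | rfl | rfl | rfl
    exacts [one_mem_V, hμ, act_mem_V hμ, act_mem_V (act_mem_V hμ)]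
  have h3 := act_act_act hg μ
  have e1 : act g μ ≠ μ := fun h => h1 (act_fix hg h)
  have e2 : act g μ ≠ 1 := fun h => h1 (by rw [← h3, h, act_one, act_one])
  have e3 : act g (act g μ) ≠ 1 := fun h => h1 (by rw [← h3, h, act_one])
  have e4 : act g (act g μ) ≠ act g μ := fun h => e1 (by
    have := congrArg (act g) h
    rw [h3, h] at this
    exact this.symm)
  have e5 : act g (act g μ) ≠ μ := fun h => e1 (by
    have := congrArg (act g) h
    rw [h3] at this
    exact this.symm)
  have n1 : (1 : D →* ℂˣ) ∉ ({μ, act g μ, act g (act g μ)} : Finset (D →* ℂˣ)) := by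
    simp [h1.symm, e2.symm, e3.symm]
  have n2 : μ ∉ ({act g μ, act g (act g μ)} : Finset (D →* ℂˣ)) := by simp [e1.symm, e5.symm]
  have n3 : act g μ ∉ ({act g (act g μ)} : Finset (D →* ℂˣ)) := by simp [e4.symm]
  refine ⟨(Finset.eq_of_subset_of_card_le hsub (le_of_eq ?_)).symm, n1, n2, n3⟩
  rw [card_V hg, Finset.card_insert_of_notMem n1, Finset.card_insert_of_notMem n2,
    Finset.card_insert_of_notMem n3, Finset.card_singleton]

theorem exists_ne_one (hg : Data g) : ∃ μ ∈ V D, μ ≠ (1 : D →* ℂˣ) := by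
  classical
  by_contra h
  push Not at h
  have : (V D).card ≤ 1 := Finset.card_le_one.mpr fun a ha b hb => (h a ha).trans (h b hb).symm
  have := card_V hg
  omega

/-- An invariant sum over the characters of order at most two. -/
theorem sum_V (hg : Data g) {A : Type*} [AddCommMonoid A] (f : (D →* ℂˣ) → A)
    (hf : ∀ μ ∈ V D, f (act g μ) = f μ) {μ : D →* ℂˣ} (hμ : μ ∈ V D) (h1 : μ ≠ 1) :
    ∑ x ∈ V D, f x = f 1 + (f μ + (f μ + f μ)) := by
  classical
  obtain ⟨hV, n1, n2, n3⟩ := V_eq hg hμ h1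
  rw [hV, Finset.sum_insert n1, Finset.sum_insert n2, Finset.sum_insert n3, Finset.sum_singleton,
    hf _ (act_mem_V hμ), hf _ hμ]

open scoped Classical in
theorem sum_V_apply (hg : Data g) (u : D) :
    ∑ μ ∈ V D, ((μ u : ℂˣ) : ℂ) = if u ∈ out D then 0 else 4 := by
  split_ifs with hu
  · have hS : ∀ a b : D, (∃ x, x ^ 2 = a) → (∃ x, x ^ 2 = b) → ∃ x, x ^ 2 = a * b := by
      rintro _ _ ⟨x, rfl⟩ ⟨y, rfl⟩
      exact ⟨x * y, mul_pow x y 2⟩
    let S : Subgroup D := (powMonoidHom 2).range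
    have huS : (QuotientGroup.mk u : D ⧸ S) ≠ 1 := fun h =>
      mem_out.mp hu ((QuotientGroup.eq_one_iff u).mp h)
    have := Monoid.neZero_exponent_of_finite (G := D ⧸ S)
    obtain ⟨φ, hφ⟩ := CommGroup.exists_apply_ne_one_of_hasEnoughRootsOfUnity (D ⧸ S) ℂ huS
    set ν : D →* ℂˣ := φ.comp (QuotientGroup.mk' S) with hν
    have hνV : ν ∈ V D := mem_V.mpr (MonoidHom.ext fun x => by
      rw [hν, MonoidHom.mul_apply, ← map_mul, ← sq, MonoidHom.comp_apply, QuotientGroup.mk'_apply,
        (QuotientGroup.eq_one_iff _).mpr (MonoidHom.mem_range.mpr ⟨x, powMonoidHom_apply 2 x⟩), map_one, MonoidHom.one_apply])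
    have h : ((ν u : ℂˣ) : ℂ) * ∑ μ ∈ V D, ((μ u : ℂˣ) : ℂ) = ∑ μ ∈ V D, ((μ u : ℂˣ) : ℂ) := by
      rw [Finset.mul_sum]
      refine Finset.sum_nbij' (fun μ => ν * μ) (fun μ => ν * μ) (fun μ hμ => mul_mem_V hνV hμ)
        (fun μ hμ => mul_mem_V hνV hμ) (fun μ _ => ?_) (fun μ _ => ?_) (fun μ _ => by
          simp [MonoidHom.mul_apply])
      · exact (mul_assoc ν ν μ).symm.trans (by rw [mem_V.mp hνV]; exact one_mul μ)
      · exact (mul_assoc ν ν μ).symm.trans (by rw [mem_V.mp hνV]; exact one_mul μ)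
    by_contra hne
    exact hφ (Units.ext (mul_right_cancel₀ hne (h.trans (one_mul _).symm)))
  · obtain ⟨x, rfl⟩ := not_not.mp (fun h => hu (mem_out.mpr h))
    have : ∀ μ ∈ V D, ((μ (x ^ 2) : ℂˣ) : ℂ) = 1 := fun μ hμ => by
      rw [map_pow, sq, ← MonoidHom.mul_apply, mem_V.mp hμ]
      rfl
    rw [Finset.sum_congr rfl this, Finset.sum_const, card_V hg]
    norm_num

theorem card_out (hg : Data g) : 4 * (out D).card = 3 * Fintype.card D := by
  classical
  have h : ((∑ u : D, ∑ μ ∈ V D, ((μ u : ℂˣ) : ℂ)) : ℂ) = Fintype.card D := by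
    rw [Finset.sum_comm, Finset.sum_eq_single (1 : D →* ℂˣ)]
    · simp
    · intro μ _ hμ
      obtain ⟨v, hv⟩ : ∃ v, μ v ≠ 1 := by
        by_contra hall
        push Not at hall
        exact hμ (MonoidHom.ext hall)
      have e : ((μ v : ℂˣ) : ℂ) * ∑ u, ((μ u : ℂˣ) : ℂ) = ∑ u, ((μ u : ℂˣ) : ℂ) := by
        rw [Finset.mul_sum]
        exact Fintype.sum_equiv (Equiv.mulLeft v) _ _ fun u => by simp [map_mul]
      by_contra hne
      exact hv (Units.ext (mul_right_cancel₀ hne (e.trans (one_mul _).symm)))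
    · exact fun h => absurd one_mem_V h
  rw [Finset.sum_congr rfl fun u _ => sum_V_apply hg u, Finset.sum_ite, Finset.sum_const_zero,
    zero_add, Finset.sum_const, nsmul_eq_mul] at h
  have h' : (Finset.univ.filter fun u : D => ¬ u ∈ out D).card * 4 = Fintype.card D := by
    exact_mod_cast h
  have h2 := Finset.card_filter_add_card_filter_not (s := (Finset.univ : Finset D))
    (fun u => u ∈ out D)
  rw [Finset.filter_univ_mem, Finset.card_univ] at h2
  omega

/-- Four integers congruent modulo four with sum zero and absolute value at most three have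
square sum at least twelve, unless all are zero. -/
theorem twelve_le {a b c d : ℤ} (hs : a + b + c + d = 0) (ha : |a| ≤ 3) (hb : |b| ≤ 3)
    (hc : |c| ≤ 3) (hd : |d| ≤ 3) (hab : 4 ∣ a - b) (hac : 4 ∣ a - c) (hne : a ≠ 0) :
    12 ≤ a ^ 2 + b ^ 2 + c ^ 2 + d ^ 2 := by
  obtain rfl : d = -a - b - c := by omega
  rw [abs_le] at ha hb hc hd
  have h1 : a ≤ 3 := ha.2
  have h2 : -3 ≤ a := ha.1
  have h3 : b ≤ 3 := hb.2
  have h4 : -3 ≤ b := hb.1
  have h5 : c ≤ 3 := hc.2
  have h6 : -3 ≤ c := hc.1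
  interval_cases a <;> interval_cases b <;> interval_cases c <;> first | omega | norm_num

/-- The integer Fourier coefficients. -/
structure Coeff (g : MulAut D) (F : D → ℂ) (w : (D →* ℂˣ) → ℤ) : Prop where
  inv : ∀ u, F (g u) = F u
  eq : ∀ χ, four F χ = (Fintype.card D : ℂ) * w χ

variable {F : D → ℂ} {w : (D →* ℂˣ) → ℤ}

theorem Coeff.act_eq (h : Coeff g F w) (χ : D →* ℂˣ) : w (act g χ) = w χ := by
  have e : four F (act g χ) = four F χ := by
    rw [four, four]
    exact Fintype.sum_equiv g.toEquiv _ _ fun u => by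
      show F u * _ = F (g u) * _
      rw [h.inv u]
      rfl
  rw [h.eq, h.eq] at e
  exact_mod_cast mul_left_cancel₀ (Nat.cast_ne_zero.mpr Fintype.card_ne_zero) e

/-- The values through the coefficients. -/
theorem Coeff.value (h : Coeff g F w) (u : D) :
    F u = ∑ χ : D →* ℂˣ, (w χ : ℂ) * conj ((χ u : ℂˣ) : ℂ) := by
  have e := sum_four_mul F u
  simp only [h.eq, mul_assoc, ← Finset.mul_sum] at e
  exact (mul_left_cancel₀ (Nat.cast_ne_zero.mpr Fintype.card_ne_zero) e).symm

theorem Coeff.isIntegral (h : Coeff g F w) (u : D) : IsIntegral ℤ (F u) := by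
  rw [h.value]
  refine IsIntegral.sum _ fun χ _ => (isIntegral_algebraMap (x := w χ)).mul ?_
  rw [conj_apply]
  refine IsIntegral.of_pow (orderOf_pos u) ?_
  rw [← Units.val_pow_eq_pow_val, ← map_pow, pow_orderOf_eq_one, map_one, Units.val_one]
  exact isIntegral_one

open scoped Classical in
/-- The part on the non-squares. -/
noncomputable def outPart (F : D → ℂ) (u : D) : ℂ := if u ∈ out D then F u else 0

theorem four_outPart (hg : Data g) (h : Coeff g F w) (χ : D →* ℂˣ) :
    4 * four (outPart F) χ = (Fintype.card D : ℂ) *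
      ((4 * w χ - ∑ μ ∈ V D, w (χ * μ) : ℤ) : ℂ) := by
  classical
  push_cast
  rw [mul_sub, mul_left_comm (Fintype.card D : ℂ) 4, ← h.eq, Finset.mul_sum]
  have e : ∑ μ ∈ V D, (Fintype.card D : ℂ) * (w (χ * μ) : ℂ) =
      ∑ u, F u * ((χ u : ℂˣ) : ℂ) * (if u ∈ out D then 0 else 4) := by
    simp only [← h.eq, four]
    rw [Finset.sum_comm]
    refine Finset.sum_congr rfl fun u _ => ?_
    rw [← sum_V_apply hg u, Finset.mul_sum]
    exact Finset.sum_congr rfl fun μ _ => by rw [MonoidHom.mul_apply, Units.val_mul]; ring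
  rw [e, four, four, Finset.mul_sum, Finset.mul_sum,
    ← Finset.sum_sub_distrib]
  refine Finset.sum_congr rfl fun u _ => ?_
  rw [outPart]
  split_ifs <;> ring

/-- The sum over the non-squares. -/
theorem sum_out (hg : Data g) (h : Coeff g F w) {ν : D →* ℂˣ} (hν : ν ∈ V D) (h1 : ν ≠ 1) :
    4 * ∑ u ∈ out D, F u = 3 * (Fintype.card D : ℂ) * ((w 1 - w ν : ℤ) : ℂ) := by
  classical
  have e := four_outPart hg h 1
  have hV : ∑ μ ∈ V D, w (1 * μ) = w 1 + (w ν + (w ν + w ν)) := by
    simp only [dual_one_mul]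
    exact sum_V hg w (fun μ _ => h.act_eq μ) hν h1
  rw [hV] at e
  have hs : four (outPart F) 1 = ∑ u ∈ out D, F u := by
    simp [four, outPart]
  rw [hs] at e
  rw [e]
  push_cast
  ring

/-- For a real function the parity of the coefficient is that of the value at one. -/
theorem even_iff (hg : Data g) (h : Coeff g F w) (hreal : ∀ u, conj (F u) = F u) {c : ℤ}
    (hc : F 1 = c) {ν : D →* ℂˣ} (hν : ν ∈ V D) (h1 : ν ≠ 1) : Even (w 1 - w ν) ↔ Even c := by
  classical
  have hinv : ∀ χ : D →* ℂˣ, w χ⁻¹ = w χ := by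
    intro χ
    have e : four F χ⁻¹ = conj (four F χ) := by
      simp only [four, map_sum, map_mul, hreal, conj_apply]
    rw [h.eq, h.eq, map_mul, map_natCast, map_intCast] at e
    exact_mod_cast mul_left_cancel₀ (Nat.cast_ne_zero.mpr Fintype.card_ne_zero) e
  have htot : c = ∑ χ : D →* ℂˣ, w χ := by
    have e := h.value 1
    simp only [map_one, Units.val_one, map_one, mul_one] at e
    rw [hc] at e
    exact_mod_cast e
  have hz : ∑ χ ∈ Finset.univ \ V D, (w χ : ZMod 2) = 0 := by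
    refine Finset.sum_involution (fun χ _ => χ⁻¹) (fun χ _ => ?_) (fun χ hχ _ e => ?_)
      (fun χ hχ => ?_) (fun χ _ => inv_inv χ)
    · rw [hinv]
      exact CharTwo.add_self_eq_zero _
    · refine (Finset.mem_sdiff.mp hχ).2 (mem_V.mpr ?_)
      calc χ * χ = χ⁻¹ * χ := by rw [e]
        _ = 1 := inv_mul_cancel χ
    · refine Finset.mem_sdiff.mpr ⟨Finset.mem_univ _, fun hm => (Finset.mem_sdiff.mp hχ).2 ?_⟩
      rw [mem_V] at hm ⊢
      calc χ * χ = (χ * χ) * (χ⁻¹ * χ⁻¹) := by rw [hm, dual_mul_one]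
        _ = 1 := by
          refine MonoidHom.ext fun x => ?_
          simp [MonoidHom.mul_apply, MonoidHom.inv_apply, mul_assoc]
  have key : ((c : ℤ) : ZMod 2) = ((w 1 - w ν : ℤ) : ZMod 2) := by
    rw [htot, Int.cast_sum, ← Finset.sum_sdiff (Finset.subset_univ (V D)), hz, zero_add,
      sum_V hg (fun χ => (w χ : ZMod 2)) (fun μ _ => congrArg _ (h.act_eq μ)) hν h1,
      CharTwo.add_self_eq_zero, add_zero, Int.cast_sub, CharTwo.sub_eq_add]
  rw [even_iff_two_dvd, even_iff_two_dvd]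
  show ((2 : ℕ) : ℤ) ∣ _ ↔ ((2 : ℕ) : ℤ) ∣ _
  rw [← ZMod.intCast_zmod_eq_zero_iff_dvd,
    ← ZMod.intCast_zmod_eq_zero_iff_dvd, key]

/-- **Rigidity on the non-squares.** -/
theorem abs_eq_one (hg : Data g) (h : Coeff g F w) (hle : ∀ u ∈ out D, ‖F u‖ ≤ 1)
    (hne : ∃ u ∈ out D, F u ≠ 0) {ν : D →* ℂˣ} (hν : ν ∈ V D) (h1 : ν ≠ 1) :
    |w 1 - w ν| = 1 := by
  classical
  have hn : (0 : ℝ) < Fintype.card D := Nat.cast_pos.mpr Fintype.card_pos
  have hcard : (4 : ℝ) * (out D).card = 3 * Fintype.card D := by exact_mod_cast card_out hg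
  let dd : (D →* ℂˣ) → ℤ := fun χ => 4 * w χ - ∑ μ ∈ V D, w (χ * μ)
  have hd : ∀ χ, 4 * four (outPart F) χ = (Fintype.card D : ℂ) * (dd χ : ℂ) :=
    four_outPart hg h
  have hdmul : ∀ χ, ∀ μ ∈ V D, dd (χ * μ) = dd χ + 4 * (w (χ * μ) - w χ) := by
    intro χ μ hμ
    have : ∑ ν' ∈ V D, w (χ * μ * ν') = ∑ ν' ∈ V D, w (χ * ν') := by
      refine Finset.sum_nbij' (fun x => μ * x) (fun x => μ * x) (fun x hx => mul_mem_V hμ hx)
        (fun x hx => mul_mem_V hμ hx) (fun x _ => ?_) (fun x _ => ?_) (fun x _ => by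
          rw [dual_assoc])
      · rw [← dual_assoc, mem_V.mp hμ, dual_one_mul]
      · rw [← dual_assoc, mem_V.mp hμ, dual_one_mul]
    simp only [dd, this]
    ring
  have hnorm : ∀ u, ‖outPart F u‖ ≤ if u ∈ out D then 1 else 0 := by
    intro u
    rw [outPart]
    split_ifs with hu
    · exact hle u hu
    · simp
  have hbound : ∀ χ, |dd χ| ≤ 3 := by
    intro χ
    have h2 : ‖four (outPart F) χ‖ ≤ (out D).card := by
      refine (norm_sum_le _ _).trans ?_
      calc ∑ u : D, ‖outPart F u * ((χ u : ℂˣ) : ℂ)‖ ≤ ∑ u : D, (if u ∈ out D then (1 : ℝ) else 0) := by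
            refine Finset.sum_le_sum fun u _ => ?_
            rw [norm_mul, Complex.norm_eq_one_of_pow_eq_one (ζ := ((χ u : ℂˣ) : ℂ)) (n := orderOf u)
              (by rw [← Units.val_pow_eq_pow_val, ← map_pow, pow_orderOf_eq_one, map_one,
                Units.val_one]) (orderOf_pos u).ne', mul_one]
            exact hnorm u
        _ = _ := by simp [Finset.sum_ite_mem]
    have h3 : (Fintype.card D : ℝ) * |(dd χ : ℝ)| ≤ (Fintype.card D : ℝ) * 3 := by
      have e := congrArg (fun z : ℂ => ‖z‖) (hd χ)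
      simp only [norm_mul, Complex.norm_natCast, Complex.norm_intCast, Complex.norm_ofNat] at e
      linarith
    have := le_of_mul_le_mul_left h3 hn
    exact_mod_cast this
  have hsq : ∑ χ : D →* ℂˣ, dd χ ^ 2 ≤ 12 := by
    have h2 : ∑ u, Complex.normSq (outPart F u) ≤ (out D).card := by
      calc ∑ u, Complex.normSq (outPart F u) ≤ ∑ u : D, (if u ∈ out D then (1 : ℝ) else 0) := by
            refine Finset.sum_le_sum fun u _ => ?_
            rw [Complex.normSq_eq_norm_sq]
            have := hnorm u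
            split_ifs at this ⊢ with hu
            · nlinarith [norm_nonneg (outPart F u)]
            · nlinarith [norm_nonneg (outPart F u)]
        _ = _ := by simp [Finset.sum_ite_mem]
    have h3 := sum_normSq_four (outPart F)
    have h4 : ∀ χ, 16 * Complex.normSq (four (outPart F) χ) =
        (Fintype.card D : ℝ) ^ 2 * (dd χ : ℝ) ^ 2 := by
      intro χ
      have e := congrArg Complex.normSq (hd χ)
      rw [map_mul, map_mul, Complex.normSq_ofNat, Complex.normSq_natCast, Complex.normSq_intCast] at e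
      linarith
    have h5 : (Fintype.card D : ℝ) ^ 2 * ∑ χ : D →* ℂˣ, (dd χ : ℝ) ^ 2 ≤
        (Fintype.card D : ℝ) ^ 2 * 12 := by
      rw [Finset.mul_sum, ← Finset.sum_congr rfl fun χ _ => h4 χ, ← Finset.mul_sum, h3]
      calc 16 * ((Fintype.card D : ℝ) * ∑ u, Complex.normSq (outPart F u))
          ≤ 16 * ((Fintype.card D : ℝ) * (out D).card) := by
            exact mul_le_mul_of_nonneg_left (mul_le_mul_of_nonneg_left h2 hn.le) (by norm_num)
        _ = _ := by
            rw [show (16 : ℝ) * ((Fintype.card D : ℝ) * (out D).card) =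
              4 * (Fintype.card D : ℝ) * (4 * (out D).card) by ring, hcard]
            ring
    have := le_of_mul_le_mul_left h5 (pow_pos hn 2)
    exact_mod_cast this
  have hsum0 : ∀ χ, ∑ μ ∈ V D, dd (χ * μ) = 0 := by
    intro χ
    have e : ∑ μ ∈ V D, (w (χ * μ) - w χ) = (∑ μ ∈ V D, w (χ * μ)) - 4 * w χ := by
      rw [Finset.sum_sub_distrib, Finset.sum_const, card_V hg, nsmul_eq_mul]
      rfl
    rw [Finset.sum_congr rfl (hdmul χ), Finset.sum_add_distrib, ← Finset.mul_sum, e,
      Finset.sum_const, card_V hg, nsmul_eq_mul]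
    show ((4 : ℕ) : ℤ) * (4 * w χ - ∑ μ ∈ V D, w (χ * μ)) + _ = _
    push_cast
    ring
  have hcoset : ∀ χ, dd χ ≠ 0 → 12 ≤ ∑ μ ∈ V D, dd (χ * μ) ^ 2 := by
    intro χ hχ
    obtain ⟨μ, hμ, hμ1⟩ := exists_ne_one hg
    obtain ⟨hV, n1, n2, n3⟩ := V_eq hg hμ hμ1
    have h0 := hsum0 χ
    rw [hV, Finset.sum_insert n1, Finset.sum_insert n2, Finset.sum_insert n3,
      Finset.sum_singleton, dual_mul_one] at h0 ⊢
    have h4 : ∀ x ∈ V D, 4 ∣ dd χ - dd (χ * x) := fun x hx => ⟨w χ - w (χ * x), by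
      rw [hdmul χ x hx]; ring⟩
    have := twelve_le (by linarith) (hbound χ) (hbound (χ * μ)) (hbound (χ * act g μ))
      (hbound (χ * act g (act g μ))) (h4 μ hμ) (h4 _ (act_mem_V hμ)) hχ
    linarith
  have hdact : ∀ χ, dd (act g χ) = dd χ := by
    intro χ
    simp only [dd, h.act_eq]
    congr 1
    refine Finset.sum_bij' (fun x _ => act g (act g x)) (fun x _ => act g x)
      (fun x hx => act_mem_V (act_mem_V hx)) (fun x hx => act_mem_V hx)
      (fun x _ => act_act_act hg x) (fun x _ => act_act_act hg x) (fun x _ => ?_)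
    conv_lhs => rw [← act_act_act hg x, ← act_mul, h.act_eq]
  obtain ⟨χ, hχ⟩ : ∃ χ, dd χ ≠ 0 := by
    by_contra hall
    push Not at hall
    obtain ⟨u, hu, hFu⟩ := hne
    have e := sum_four_mul (outPart F) u
    have hz : ∀ χ, four (outPart F) χ = 0 := fun χ => by
      have e := hd χ
      rw [hall χ, Int.cast_zero, mul_zero] at e
      exact (mul_eq_zero.mp e).resolve_left (by norm_num)
    simp only [hz, zero_mul, Finset.sum_const_zero] at e
    rw [outPart, if_pos hu] at e
    exact hFu ((mul_eq_zero.mp e.symm).resolve_left (Nat.cast_ne_zero.mpr Fintype.card_ne_zero))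
  have hχV : χ ∈ V D := by
    by_contra hout
    have h1' : χ⁻¹ * act g χ ∉ V D := fun hm => hout (by
      rw [mem_V] at hm ⊢
      refine act_fix hg ?_
      rw [act_mul]
      calc act g χ * act g χ = (χ⁻¹ * act g χ) * (χ⁻¹ * act g χ) * (χ * χ) := by
            refine MonoidHom.ext fun x => ?_
            simp [MonoidHom.mul_apply, MonoidHom.inv_apply, mul_assoc, mul_comm, mul_left_comm]
        _ = _ := by rw [hm, dual_one_mul])
    have hdis : Disjoint ((V D).image fun μ => χ * μ) ((V D).image fun μ => act g χ * μ) := by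
      rw [Finset.disjoint_left]
      intro x hx hx'
      obtain ⟨a, ha, rfl⟩ := Finset.mem_image.mp hx
      obtain ⟨b, hb, e⟩ := Finset.mem_image.mp hx'
      apply h1'
      have : χ⁻¹ * act g χ = a * b := by
        calc χ⁻¹ * act g χ = χ⁻¹ * (act g χ * (b * b)) := by rw [mem_V.mp hb, dual_mul_one]
          _ = χ⁻¹ * (χ * (a * b)) := by rw [← dual_assoc (act g χ), e, dual_assoc χ]
          _ = a * b := dual_inv_mul_cancel_left χ _
      rw [this]
      exact mul_mem_V ha hb
    have h2 := hcoset χ hχ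
    have h3 := hcoset (act g χ) (by rw [hdact]; exact hχ)
    have h4 : ∑ x ∈ ((V D).image fun μ => χ * μ) ∪ ((V D).image fun μ => act g χ * μ),
        dd x ^ 2 ≤ 12 :=
      (Finset.sum_le_sum_of_subset_of_nonneg (Finset.subset_univ _)
        fun x _ _ => sq_nonneg _).trans hsq
    rw [Finset.sum_union hdis, Finset.sum_image (fun a _ b _ e => dual_mul_left_cancel e),
      Finset.sum_image (fun a _ b _ e => dual_mul_left_cancel e)] at h4
    linarith
  have hd1 : dd 1 = 3 * (w 1 - w ν) := by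
    simp only [dd, dual_one_mul, sum_V hg w (fun μ _ => h.act_eq μ) hν h1]
    ring
  have hdν : ∀ μ ∈ V D, μ ≠ 1 → 3 * dd μ = -dd 1 := by
    intro μ hμ hμ1
    have h0 := hsum0 1
    rw [Finset.sum_congr rfl fun x _ => congrArg dd (dual_one_mul x),
      sum_V hg dd (fun x _ => hdact x) hμ hμ1] at h0
    linarith
  have hne1 : dd 1 ≠ 0 := by
    intro h0
    by_cases hχ1 : χ = 1
    · exact hχ (hχ1 ▸ h0)
    · have := hdν χ hχV hχ1
      rw [h0] at this
      exact hχ (by linarith)
  have hb1 := hbound 1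
  rw [hd1, abs_mul, abs_of_pos (by norm_num : (0 : ℤ) < 3)] at hb1
  have hpos : 0 < |w 1 - w ν| := abs_pos.mpr fun e => hne1 (by rw [hd1, e, mul_zero])
  omega

end Cfsg.Agent.Lib.HomocyclicFree.Fourier
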