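import Cfsg.Agent.Lib.HomocyclicFree.Fourier

/-!
# Automorphisms of odd order of a homocyclic 2-group of rank two

A group `A` of automorphisms of odd order of `(ℤ/2^m)²` is trivial or generated by a
fixed-point-free automorphism of order three.
-/

set_option autoImplicit false
set_option linter.style.haveILetI false

namespace Cfsg.Agent.Lib.HomocyclicFree.Aut

universe u

theorem card_two_torsion_zmod {m : ℕ} (hm : 1 ≤ m) :
    Nat.card {x : ZMod (2 ^ m) // 2 • x = 0} = 2 := by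
  obtain ⟨k, rfl⟩ : ∃ k, m = k + 1 := ⟨m - 1, by omega⟩
  haveI : NeZero (2 ^ (k + 1)) := ⟨pow_ne_zero _ two_ne_zero⟩
  have hlt : 2 ^ k < 2 ^ (k + 1) := Nat.pow_lt_pow_right (by omega) (by omega)
  have h : ∀ x : ZMod (2 ^ (k + 1)), 2 • x = 0 ↔ x = 0 ∨ x = ((2 ^ k : ℕ) : ZMod (2 ^ (k + 1))) := by
    intro x
    constructor
    · intro hx
      rw [nsmul_eq_mul] at hx
      rw [← ZMod.natCast_zmod_val x, ← Nat.cast_mul, ZMod.natCast_eq_zero_iff] at hx
      have hx : 2 * 2 ^ k ∣ 2 * x.val := by rwa [← pow_succ']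
      obtain ⟨c, hc⟩ := (Nat.mul_dvd_mul_iff_left (by omega : 0 < 2)).mp hx
      have hv := ZMod.val_lt x
      replace hv : 2 ^ k * c < 2 ^ k * 2 := by rwa [← hc, ← pow_succ]
      have hc2 : c < 2 := Nat.lt_of_mul_lt_mul_left hv
      interval_cases c
      · left; rw [mul_zero] at hc; exact (ZMod.val_eq_zero x).mp hc
      · right; rw [mul_one] at hc; rw [← ZMod.natCast_zmod_val x, hc]
    · rintro (rfl | rfl)
      · simp
      · rw [nsmul_eq_mul, ← Nat.cast_mul, ← pow_succ', ZMod.natCast_self]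
  rw [Nat.card_congr (Equiv.subtypeEquivRight h), Nat.card_eq_two_iff]
  refine ⟨⟨0, Or.inl rfl⟩, ⟨_, Or.inr rfl⟩, ?_, ?_⟩
  · intro e
    have := congrArg ZMod.val (congrArg Subtype.val e)
    rw [ZMod.val_zero, ZMod.val_natCast_of_lt hlt] at this
    exact absurd this.symm (pow_ne_zero k two_ne_zero)
  · rw [Set.eq_univ_iff_forall]
    rintro ⟨x, rfl | rfl⟩ <;> simp

theorem card_sq_eq_one {D : Type u} [CommGroup D] {m : ℕ} (hm : 1 ≤ m)
    (e : D ≃* Multiplicative (ZMod (2 ^ m) × ZMod (2 ^ m))) :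
    Nat.card {u : D // u ^ 2 = 1} = 4 := by
  have h : ∀ u : D, u ^ 2 = 1 ↔ 2 • (Multiplicative.toAdd (e u)).1 = 0 ∧
      2 • (Multiplicative.toAdd (e u)).2 = 0 := by
    intro u
    rw [← e.map_eq_one_iff, map_pow, ← toAdd_eq_zero, toAdd_pow, Prod.ext_iff]
    rfl
  have h2 : {u : D // u ^ 2 = 1} ≃
      {x : ZMod (2 ^ m) × ZMod (2 ^ m) // 2 • x.1 = 0 ∧ 2 • x.2 = 0} :=
    (e.toEquiv.trans Multiplicative.toAdd).subtypeEquiv h
  let h3 : {x : ZMod (2 ^ m) × ZMod (2 ^ m) // 2 • x.1 = 0 ∧ 2 • x.2 = 0} ≃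
      {x : ZMod (2 ^ m) // 2 • x = 0} × {x : ZMod (2 ^ m) // 2 • x = 0} :=
    Equiv.subtypeProdEquivProd (p := fun x : ZMod (2 ^ m) => 2 • x = 0)
      (q := fun x : ZMod (2 ^ m) => 2 • x = 0)
  rw [Nat.card_congr (h2.trans h3), Nat.card_prod, card_two_torsion_zmod hm]

theorem card_eq_pow {D : Type u} [CommGroup D] {m : ℕ}
    (e : D ≃* Multiplicative (ZMod (2 ^ m) × ZMod (2 ^ m))) : Nat.card D = 4 ^ m := by
  rw [Nat.card_congr (e.toEquiv.trans Multiplicative.toAdd), Nat.card_prod, Nat.card_zmod,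
    ← mul_pow]; norm_num

/-- An automorphism of odd order fixing the elements of square one fixes everything. -/
theorem eq_one_of_fix {D : Type u} [CommGroup D] {k : ℕ}
    (hexp : ∀ u : D, u ^ (2 ^ k) = 1) {a : MulAut D} {r : ℕ} (hr : Odd r) (har : a ^ r = 1)
    (hfix : ∀ u : D, u ^ 2 = 1 → a u = u) : a = 1 := by
  suffices ∀ i, ∀ u : D, u ^ (2 ^ i) = 1 → a u = u from MulEquiv.ext fun u => this k u (hexp u)
  intro i
  induction i with
  | zero => intro u hu; rw [pow_zero, pow_one] at hu; rw [hu, map_one]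
  | succ i ih =>
    intro u hu
    have h2 : a (u ^ 2) = u ^ 2 := ih _ (by rw [← pow_mul, ← pow_succ']; exact hu)
    set v := u⁻¹ * a u with hv
    have hv2 : v ^ 2 = 1 := by
      rw [hv, mul_pow, ← map_pow, h2, inv_pow, inv_mul_cancel]
    have hj : ∀ j : ℕ, (a ^ j) u = u * v ^ j := by
      intro j
      induction j with
      | zero => simp
      | succ j ihj =>
        rw [pow_succ', MulAut.mul_apply, ihj, map_mul, map_pow, hfix v hv2, pow_succ', ← mul_assoc]
        congr 1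
        rw [hv, mul_inv_cancel_left]
    have h := hj r
    rw [har, MulAut.one_apply] at h
    obtain ⟨c, rfl⟩ := hr
    rw [pow_succ, pow_mul, hv2, one_pow, one_mul] at h
    have hv1 : v = 1 := mul_eq_left.mp h.symm
    rw [hv, inv_mul_eq_one] at hv1
    exact hv1.symm

/-- **Odd automorphism groups.** -/
theorem eq_bot_or_data {D : Type u} [CommGroup D] [Fintype D] {m : ℕ} (hm : 1 ≤ m)
    (e : D ≃* Multiplicative (ZMod (2 ^ m) × ZMod (2 ^ m))) (A : Subgroup (MulAut D))
    (hA : Odd (Nat.card A)) :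
    A = ⊥ ∨ Nat.card A = 3 ∧ ∃ g ∈ A, Fourier.Data g ∧ ∀ a ∈ A, a ≠ 1 → ∀ u, a u = u → u = 1 := by
  classical
  have htwo := card_sq_eq_one hm e
  have hexp : ∀ u : D, u ^ (2 ^ (2 * m)) = 1 := by
    intro u
    have h : u ^ Nat.card D = 1 := pow_card_eq_one'
    rwa [card_eq_pow e, show (4 : ℕ) = 2 ^ 2 from rfl, ← pow_mul] at h
  haveI : Finite (MulAut D) := Finite.of_injective (fun a : MulAut D => (a : D → D))
    DFunLike.coe_injective
  let X := {u : D // u ^ 2 = 1 ∧ u ≠ 1}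
  have hX : Nat.card X = 3 := by
    have h1 : ({u : D | u ^ 2 = 1 ∧ u ≠ 1}).ncard + 1 = ({u : D | u ^ 2 = 1}).ncard := by
      have : ({u : D | u ^ 2 = 1 ∧ u ≠ 1}) = {u : D | u ^ 2 = 1} \ {1} := by ext; simp
      rw [this, Set.ncard_sdiff_singleton_add_one (s := {u : D | u ^ 2 = 1}) (a := 1) (one_pow 2)]
    have e1 : Nat.card X = ({u : D | u ^ 2 = 1 ∧ u ≠ 1}).ncard := rfl
    have e2 : Nat.card {u : D // u ^ 2 = 1} = ({u : D | u ^ 2 = 1}).ncard := rfl
    omega
  have hmem : ∀ (a : MulAut D) (x : X), (a x.1) ^ 2 = 1 ∧ a x.1 ≠ 1 := fun a x =>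
    ⟨by rw [← map_pow, x.2.1, map_one], fun h => x.2.2 (a.map_eq_one_iff.mp h)⟩
  let φ : A →* Equiv.Perm X :=
    { toFun := fun a =>
        { toFun := fun x => ⟨(a : MulAut D) x.1, hmem _ x⟩
          invFun := fun x => ⟨((a⁻¹ : A) : MulAut D) x.1, hmem _ x⟩
          left_inv := fun x => Subtype.ext (MulEquiv.symm_apply_apply _ _)
          right_inv := fun x => Subtype.ext (MulEquiv.apply_symm_apply _ _) }
      map_one' := Equiv.ext fun x => Subtype.ext rfl
      map_mul' := fun a b => Equiv.ext fun x => Subtype.ext rfl }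
  have hord : ∀ a ∈ A, a ^ Nat.card A = 1 := fun a ha =>
    congrArg Subtype.val (pow_card_eq_one' (x := (⟨a, ha⟩ : A)))
  have hinj : Function.Injective φ := (injective_iff_map_eq_one φ).mpr fun a ha => by
    refine Subtype.ext (eq_one_of_fix hexp hA (hord a a.2) fun u hu => ?_)
    by_cases hu1 : u = 1
    · rw [hu1, map_one]
    · exact congrArg Subtype.val (DFunLike.congr_fun ha ⟨u, hu, hu1⟩)
  have hdvd : Nat.card A ∣ 6 := by
    have h := Subgroup.card_dvd_of_injective φ hinj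
    rwa [Nat.card_perm, hX] at h
  have h13 : Nat.card A = 1 ∨ Nat.card A = 3 := by
    have h6 := Nat.le_of_dvd (by norm_num) hdvd
    obtain ⟨c, hc⟩ := hA
    generalize Nat.card A = n at hdvd h6 hc ⊢
    interval_cases n <;> omega
  rcases h13 with h | h
  · exact Or.inl (Subgroup.eq_bot_of_card_eq A h)
  refine Or.inr ⟨h, ?_⟩
  have hfree : ∀ a ∈ A, a ≠ 1 → ∀ u, a u = u → u = 1 := by
    intro a ha ha1 u hu
    by_contra hu1
    -- a fixed involution
    obtain ⟨i, -, hi⟩ := (Nat.dvd_prime_pow Nat.prime_two).mp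
      (orderOf_dvd_of_pow_eq_one (hexp u))
    obtain ⟨j, rfl⟩ : ∃ j, i = j + 1 := by
      rcases i with _ | j
      · exact absurd (orderOf_eq_one_iff.mp (by rw [hi, pow_zero])) hu1
      · exact ⟨j, rfl⟩
    set v := u ^ (2 ^ j) with hv
    have hv2 : v ^ 2 = 1 := by rw [hv, ← pow_mul, ← pow_succ, ← hi, pow_orderOf_eq_one]
    have hv1 : v ≠ 1 := fun e => by
      have := Nat.le_of_dvd (pow_pos two_pos _) (orderOf_dvd_of_pow_eq_one e)
      rw [hi, pow_succ] at this
      have := Nat.one_le_two_pow (n := j)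
      omega
    have hav : a v = v := by rw [hv, map_pow, hu]
    have h3 : φ ⟨a, ha⟩ ^ 3 = 1 := by
      rw [← map_pow, ← h, pow_card_eq_one', map_one]
    -- a permutation of three points of cube one with a fixed point is trivial
    haveI : Fintype X := Fintype.ofFinite X
    have hX' : Fintype.card X = 3 := by rw [← Nat.card_eq_fintype_card, hX]
    have hsupp : (φ ⟨a, ha⟩).support.card < 3 := by
      rw [← hX']
      refine Finset.card_lt_univ_of_notMem (x := ⟨v, hv2, hv1⟩) ?_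
      rw [Equiv.Perm.notMem_support]
      exact Subtype.ext hav
    have hne : φ ⟨a, ha⟩ ≠ 1 := fun e => ha1 (congrArg Subtype.val (hinj (e.trans (map_one φ).symm)))
    have h2 : (φ ⟨a, ha⟩).support.card = 2 := by
      have := Equiv.Perm.one_lt_card_support_of_ne_one hne
      omega
    obtain ⟨x, y, hxy, hs⟩ := Equiv.Perm.card_support_eq_two.mp h2
    rw [hs, pow_succ, sq, Equiv.swap_mul_self, one_mul] at h3
    exact hxy (Equiv.swap_eq_one_iff.mp h3)
  obtain ⟨g, hg, hg1⟩ : ∃ g ∈ A, g ≠ 1 := by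
    by_contra hall
    push Not at hall
    rw [(Subgroup.eq_bot_iff_forall A).mpr hall, Subgroup.card_bot] at h
    omega
  exact ⟨g, hg, ⟨hfree g hg hg1, h ▸ hord g hg, htwo⟩, hfree⟩

end Cfsg.Agent.Lib.HomocyclicFree.Aut
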