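import Cfsg.Agent.Lib.StarChar.AbelianSection
import Cfsg.Agent.Lib.HomocyclicFree.Aut
import Cfsg.Agent.S4978

/-!
# 2-blocks with homocyclic defect group of rank two and inertial index three

The star integrality on the layer of non-squares gives, for each character, an odd integer
`q χ ∈ {1, 3}` with `∑ q χ = |D|`, and at most four characters have `q χ = 1`.  Together with the
count `3 k = 3 l + |D| - 1` this gives `l = 3`.
-/

set_option autoImplicit false
set_option linter.style.haveILetI false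
set_option maxHeartbeats 2000000

namespace Cfsg.Agent.Lib.HomocyclicFree.Block

open MonoidAlgebra
open scoped ComplexConjugate
open Cfsg.Agent.Lib.Blocks Cfsg.Agent.Lib.Blocks.Contrib Cfsg.Agent.Lib.Blocks.SectionMatrix
open Cfsg.Agent.Lib.Blocks.SectionHeight Cfsg.Agent.Lib.Blocks.MajorSection
open Cfsg.Agent.Lib.BrauerPairs.Center Cfsg.Agent.Lib.BrauerPairs.Pairs
open Cfsg.Agent.Lib.BrauerPairs.Maximal Cfsg.Agent.Lib.BrauerPairs.Bridge
open Cfsg.Agent.Lib.BrauerPairs.Fusion Cfsg.Agent.Lib.BrauerPairs.Local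
open Cfsg.Agent.Lib.BC78.Galois
open Cfsg.Agent.Lib.StarChar.Comp Cfsg.Agent.Lib.StarChar.Section
open Cfsg.Agent.Lib.StarChar.NilpotentPairing (blkAt)
open Cfsg.Agent.Lib.StarChar.AbelianPairing Cfsg.Agent.Lib.StarChar.AbelianSection
open Cfsg.Agent.Lib.Characters.Basic

universe u

attribute [local instance] Ideal.Quotient.field

variable {G : Type u} [Group G] [Fintype G] {p : ℕ} [Fact p.Prime] {M : Ideal Cfsg.AlgInt}
  [M.IsMaximal] [CharP (Res M) p]

local notation "C[" P "]" => Subgroup.centralizer ((P : Subgroup G) : Set G)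

/-- An inverse of an element outside the local ideal. -/
theorem inv_mem {z : ℂ} (hz : z ∈ localRing M) (h : ¬ Cfsg.MemLocalIdeal M z) :
    z⁻¹ ∈ localRing M := by
  have hu : IsUnit (⟨z, hz⟩ : localRing M) :=
    isUnit_localRing_iff.mpr fun e => h (residue_eq_zero_iff.mp e)
  obtain ⟨v, hv⟩ := hu.exists_left_inv
  have h1 : (v : ℂ) * z = 1 := congrArg Subtype.val hv
  rw [← eq_inv_of_mul_eq_one_left h1]
  exact v.2

theorem blockRank_eq_three [Fact (Nat.Prime 2)] [CharP (Res M) 2] (hM : Cfsg.IsPModular 2 M)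
    {b : Idx (Res M) G} {ψ : Blk (Res M) G} (hb : Top 2 b) (hψ : PairOf 2 ψ b)
    (hab : ∀ x ∈ b.1, ∀ y ∈ b.1, x * y = y * x) {m : ℕ} (hm : 2 ≤ m)
    (e : b.1 ≃* Multiplicative (ZMod (2 ^ m) × ZMod (2 ^ m))) {g : MulAut b.1}
    (hgE : g ∈ (autHom b).range) (hE : Nat.card (autHom b).range = 3)
    (hfree : ∀ α ∈ (autHom b).range, α ≠ 1 → ∀ u, α u = u → u = 1) (hfix : ∀ u, g u = u → u = 1) :
    Cfsg.blockRank 2 (toSet ψ) = 3 ∧ 3 * Nat.card (toSet ψ) = 4 ^ m + 8 := by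
  classical
  letI : CommGroup b.1 :=
    { (inferInstance : Group b.1) with mul_comm := fun a c => Subtype.ext (hab a a.2 c c.2) }
  haveI := Fintype.ofFinite b.1
  have := Monoid.neZero_exponent_of_finite (G := b.1)
  haveI : Finite (b.1 →* ℂˣ) := Nat.finite_of_card_ne_zero
    (by rw [CommGroup.card_monoidHom_of_hasEnoughRootsOfUnity]; exact Nat.card_pos.ne')
  haveI := Fintype.ofFinite (b.1 →* ℂˣ)
  haveI := Fintype.ofFinite (Cfsg.IrrCharacter G)
  have hg3 : g ^ 3 = 1 := by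
    have h := pow_card_eq_one' (x := (⟨g, hgE⟩ : (autHom b).range))
    rw [hE] at h
    exact congrArg Subtype.val h
  have hD : Fourier.Data g := ⟨hfix, hg3, Aut.card_sq_eq_one (by omega) e⟩
  set B := toSet ψ with hBdef
  have hB : Cfsg.IsPBlock M B := isPBlock_toSet ψ
  have hblk : ∀ {χ : Cfsg.IrrCharacter G}, χ ∈ B → blkOf M χ = ψ := fun h => mem_toSet.mp h
  have hψ' : PairOf 2 (blk hB) b := by rwa [show blk hB = ψ from blk_toSet ψ hB]
  set n : ℕ := Fintype.card b.1 with hn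
  have hcard : Nat.card b.1 = n := Nat.card_eq_fintype_card
  have hn4 : n = 4 ^ m := by rw [← hcard, Aut.card_eq_pow e]
  have hnd : n = 2 ^ Cfsg.blockDefect 2 B := by
    rw [← hcard]
    exact card_isDefectGroup hM hB
      ((isDefectGroup_iff hB b.1).mpr (by
        rw [show blk hB = ψ from blk_toSet ψ hB]; exact isDef_of_top hb hψ))
  have hn0 : (n : ℂ) ≠ 0 := Nat.cast_ne_zero.mpr Fintype.card_ne_zero
  have hd2 : 2 ≤ Cfsg.blockDefect 2 B := by
    by_contra hcon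
    have h1 : 4 ^ 2 ≤ 4 ^ m := Nat.pow_le_pow_right (by norm_num) hm
    have h2 : 2 ^ Cfsg.blockDefect 2 B ≤ 2 ^ 1 := Nat.pow_le_pow_right (by norm_num) (by omega)
    omega
  have hfree' : ∀ u : b.1, u ≠ 1 → ∀ α ∈ (autHom b).range, α u = u → α = 1 :=
    fun u hu α hα h => by_contra fun hne => hu (hfree α hα hne u h)
  -- the coefficients
  have hinv : ∀ χ χ' : Cfsg.IrrCharacter G, ∀ u, gram hb χ χ' (g u) = gram hb χ χ' u :=
    fun χ χ' u => gram_inv hb hab χ χ' g hgE u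
  have hwex : ∀ χ : B, ∀ χ' : Cfsg.IrrCharacter G, ∀ l : b.1 →* ℂˣ, ∃ w : ℤ,
      Fourier.four (gram hb χ.1 χ') l = (n : ℂ) * w := fun χ χ' l => by
    obtain ⟨w, hw⟩ := exists_coeff hb hψ hab hM (hblk χ.2) χ' l
    exact ⟨w, by rw [← hcard]; exact hw⟩
  choose w hw using hwex
  have hcoef : ∀ (χ : B) (χ' : Cfsg.IrrCharacter G),
      Fourier.Coeff g (gram hb χ.1 χ') (w χ χ') := fun χ χ' => ⟨hinv _ _, hw χ χ'⟩
  obtain ⟨ν, hν, hν1⟩ := Fourier.exists_ne_one hD
  let q : B → Cfsg.IrrCharacter G → ℤ := fun χ χ' => w χ χ' 1 - w χ χ' ν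
  have hout : ∀ χ χ', 4 * ∑ u ∈ Fourier.out b.1, gram hb χ.1 χ' u = 3 * (n : ℂ) * (q χ χ' : ℂ) :=
    fun χ χ' => Fourier.sum_out hD (hcoef χ χ') hν hν1
  have hout1 : ∀ u ∈ Fourier.out b.1, u ≠ 1 := fun u hu => Fourier.ne_one_of_mem_out hu
  have hreal : ∀ (χ : Cfsg.IrrCharacter G) u, conj (gram hb χ χ u) = gram hb χ χ u := fun χ u => by
    obtain ⟨r, -, hr, -⟩ := exists_real hb χ u
    rw [hr, Complex.conj_ofReal]
  choose r hrpos hr using fun (χ : B) u => exists_pos hb hψ hab hM (hblk χ.2) u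
  -- the value at the identity
  have hone : ∀ χ : B, ∃ c : ℤ, gram hb χ.1 χ.1 1 = ((3 * c : ℤ) : ℂ) ∧
      contribN 2 χ.1 χ.1 = (2 : ℤ) ^ minVdeg 2 B * c := by
    intro χ
    obtain ⟨c, hc⟩ := pow_minVdeg_dvd_contribN hM (p := 2) (B := B) χ.2 χ.1
    refine ⟨c, ?_, by exact_mod_cast hc⟩
    rw [gram_one hb hψ hab hM (hblk χ.2), hE, hcard, hc, hnd,
      ← minVdeg_add_blockDefect (p := 2) hB, pow_add]
    push_cast
    field_simp
  choose c hc hcN using hone
  -- bounds on `q`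
  have hcardout : 4 * (Fourier.out b.1).card = 3 * n := Fourier.card_out hD
  have hqpos : ∀ χ : B, 0 < q χ χ.1 := by
    intro χ
    have h := hout χ χ.1
    simp only [hr χ] at h
    have h' : 4 * ∑ u ∈ Fourier.out b.1, r χ u = 3 * (n : ℝ) * (q χ χ.1 : ℝ) := by
      exact_mod_cast h
    have hne : (Fourier.out b.1).Nonempty := Finset.card_pos.mp (by
      have : 0 < n := Fintype.card_pos
      omega)
    have hpos : 0 < ∑ u ∈ Fourier.out b.1, r χ u := Finset.sum_pos (fun u _ => hrpos χ u) hne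
    by_contra hle
    have : (q χ χ.1 : ℝ) ≤ 0 := by exact_mod_cast not_lt.mp hle
    nlinarith [(Nat.cast_nonneg n : (0 : ℝ) ≤ n)]
  have htot : ∀ χ : B, ∑ u, r χ u = 3 * (n : ℝ) := by
    intro χ
    have h := sum_gram_eq hb hψ hab hM (hblk χ.2) χ.1
    rw [classInner_self_irr, mul_one, hE, hcard] at h
    simp only [hr χ] at h
    exact_mod_cast h
  have hq4 : ∀ χ : B, q χ χ.1 < 4 := by
    intro χ
    have h := hout χ χ.1
    simp only [hr χ] at h
    have h' : 4 * ∑ u ∈ Fourier.out b.1, r χ u = 3 * (n : ℝ) * (q χ χ.1 : ℝ) := by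
      exact_mod_cast h
    have hlt : ∑ u ∈ Fourier.out b.1, r χ u < 3 * (n : ℝ) := by
      rw [← htot χ]
      exact Finset.sum_lt_sum_of_subset (Finset.subset_univ _) (Finset.mem_univ 1)
        (fun h => hout1 1 h rfl) (hrpos χ 1) (fun u _ _ => (hrpos χ u).le)
    by_contra hle
    have : (4 : ℝ) ≤ (q χ χ.1 : ℝ) := by exact_mod_cast not_lt.mp hle
    nlinarith [(Nat.cast_nonneg n : (0 : ℝ) ≤ n)]
  -- parity
  have hparity : ∀ χ : B, Even (q χ χ.1) ↔ Even (c χ) := by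
    intro χ
    rw [Fourier.even_iff hD (hcoef χ χ.1) (hreal _) (hc χ) hν hν1, Int.even_mul]
    simp [show ¬ Even (3 : ℤ) by decide]
  -- integrality and Galois
  have hint : ∀ (χ : B) u, IsIntegral ℤ (r χ u : ℂ) := fun χ u => by
    rw [← hr]; exact (hcoef χ χ.1).isIntegral u
  have hgal : ∀ (χ : B) (σ : Alg ≃ₐ[ℚ] Alg),
      ∃ π : Equiv.Perm (Fourier.out b.1 : Finset b.1), ∀ i : (Fourier.out b.1 : Finset b.1),
        ((σ ⟨(r χ i.1 : ℂ), mem_alg_of_isIntegral (hint χ i.1)⟩ : Alg) : ℂ) =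
          (r χ (π i).1 : ℂ) := by
    intro χ σ
    obtain ⟨k, hk, hσ⟩ := exists_exponent_char (G := b.1) σ
    let π := powCoprime (G := b.1) hk.symm
    have hπ : ∀ u, π u ∈ Fourier.out b.1 ↔ u ∈ Fourier.out b.1 := by
      intro u
      rw [Fourier.mem_out, Fourier.mem_out, not_iff_not]
      show (∃ x, x ^ 2 = u ^ k) ↔ _
      constructor
      · rintro ⟨x, hx⟩
        refine ⟨π.symm x, π.injective ?_⟩
        show (π.symm x ^ 2) ^ k = u ^ k
        rw [← pow_mul, mul_comm, pow_mul]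
        show (π (π.symm x)) ^ 2 = _
        rw [π.apply_symm_apply, hx]
      · rintro ⟨x, rfl⟩
        exact ⟨x ^ k, by rw [← pow_mul, ← pow_mul, mul_comm]⟩
    refine ⟨π.subtypeEquiv fun u => (hπ u).symm, fun i => ?_⟩
    have hma : ∀ l : b.1 →* ℂˣ, conj ((l i.1 : ℂˣ) : ℂ) ∈ Alg := fun l => by
      refine mem_alg_of_isIntegral ?_
      rw [Fourier.conj_apply]
      exact isIntegral_apply (Cfsg.Agent.Lib.Brauer.Elementary.isCharacter_hom
        ((Units.coeHom ℂ).comp l⁻¹)) i.1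
    have h1 : (⟨(r χ i.1 : ℂ), mem_alg_of_isIntegral (hint χ i.1)⟩ : Alg) =
        ∑ l : b.1 →* ℂˣ, (w χ χ.1 l : Alg) * ⟨conj ((l i.1 : ℂˣ) : ℂ), hma l⟩ := by
      apply Subtype.ext
      push_cast
      rw [← hr, (hcoef χ χ.1).value]
    rw [h1, map_sum]
    simp only [map_mul, map_intCast]
    push_cast
    show _ = (r χ (i.1 ^ k) : ℂ)
    rw [← hr, (hcoef χ χ.1).value]
    refine Finset.sum_congr rfl fun l _ => ?_
    congr 1
    have e2 : conj ((l i.1 : ℂˣ) : ℂ) = ((Units.coeHom ℂ).comp l⁻¹) i.1 := Fourier.conj_apply l i.1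
    have h3 := hσ _ (Cfsg.Agent.Lib.Brauer.Elementary.isCharacter_hom
      ((Units.coeHom ℂ).comp l⁻¹)) i.1 (e2 ▸ hma l)
    rw [show (⟨conj ((l i.1 : ℂˣ) : ℂ), hma l⟩ : Alg) = ⟨_, e2 ▸ hma l⟩ from Subtype.ext e2, h3]
    exact (Fourier.conj_apply l _).symm
  -- all heights are zero
  obtain ⟨χ₀, hχ₀, h0⟩ := exists_height_zero (p := 2) hB
  have hheight : ∀ χ ∈ B, vdeg 2 χ = minVdeg 2 B := by
    intro χ hχ
    by_contra hne
    have hlt : minVdeg 2 B < vdeg 2 χ := lt_of_le_of_ne (minVdeg_le hχ) (Ne.symm hne)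
    have hh : 1 ≤ Cfsg.blockHeight 2 B (χ : G → ℂ) := by rw [Contrib.blockHeight_eq]; omega
    have hdiv : ∀ u : b.1, u ≠ 1 → gram hb χ χ₀ u / ((2 : ℕ) : ℂ) ∈ localRing M := by
      intro u hu
      haveI := Fintype.ofFinite C[Subgroup.zpowers (u : G)]
      obtain ⟨x, hxu, hx⟩ := exists_pelt hb u
      rw [gram_eq_cX hb hψ hab hM χ₀ u (hfree' u hu) hxu hx]
      obtain ⟨h1, -⟩ := div_pow_height hM hx (isPBlock_toSet _) hB
        (blkAt_facts hb hab hM hψ u (hfree' u hu)).2 hχ hχ₀ χ₀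
      convert mul_mem h1 (natCast_mem (localRing M)
        (2 ^ (Cfsg.blockHeight 2 B (χ : G → ℂ) - 1))) using 1
      obtain ⟨h, hh'⟩ : ∃ h, Cfsg.blockHeight 2 B (χ : G → ℂ) = h + 1 :=
        ⟨_, (Nat.succ_pred_eq_of_pos hh).symm⟩
      rw [hh', Nat.add_sub_cancel, pow_succ]
      push_cast
      field_simp
    have hle : (2 : ℝ) ^ 2 * (Fourier.out b.1).card ≤
        ∑ i : (Fourier.out b.1 : Finset b.1), r ⟨χ, hχ⟩ i.1 := by
      have h := mul_card_le_sum hM 2 (fun i : (Fourier.out b.1 : Finset b.1) => r ⟨χ, hχ⟩ i.1)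
        (fun i => hint _ i.1) (fun i => hrpos _ i.1) (fun i => ?_) (hgal ⟨χ, hχ⟩)
      · rw [Fintype.card_coe] at h
        exact_mod_cast h
      · have hu : i.1 ≠ 1 := hout1 _ i.2
        have hu' : i.1⁻¹ ≠ 1 := fun e => hu (inv_eq_one.mp e)
        haveI := Fintype.ofFinite C[Subgroup.zpowers ((i.1 : b.1) : G)]
        obtain ⟨x, hxu, hx⟩ := exists_pelt hb i.1
        have hgb : gram hb χ₀ χ₀ i.1 = cX 2 (toSet (blkAt hb.1 i.1)) x χ₀ χ₀ :=
          gram_eq_cX hb hψ hab hM χ₀ i.1 (hfree' _ hu) hxu hx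
        have hconj : conj (gram hb χ χ₀ i.1) = gram hb χ χ₀ i.1⁻¹ := by
          rw [(hcoef ⟨χ, hχ⟩ χ₀).value, (hcoef ⟨χ, hχ⟩ χ₀).value, map_sum]
          refine Finset.sum_congr rfl fun l _ => ?_
          rw [map_mul, map_intCast, Complex.conj_conj, Fourier.conj_apply, MonoidHom.inv_apply,
            map_inv, inv_inv]
        have h0r : gram hb χ₀ χ₀ i.1 ∈ localRing M :=
          mem_localRing_of_isIntegral ((hcoef ⟨χ₀, hχ₀⟩ χ₀).isIntegral i.1)
        have h0i : (gram hb χ₀ χ₀ i.1)⁻¹ ∈ localRing M := by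
          refine inv_mem h0r ?_
          rw [hgb]
          exact not_memLocalIdeal_cX hM hx (isInducedBlock_blkAt hb hM hψ i.1) hχ₀ hχ₀ h0 h0
        have h0ne : gram hb χ₀ χ₀ i.1 ≠ 0 := by
          rw [hr ⟨χ₀, hχ₀⟩]
          exact Complex.ofReal_ne_zero.mpr (hrpos _ _).ne'
        have key := gram_mul_gram hb hψ hab hM (hblk hχ) χ₀ i.1 (hfree' _ hu)
        rw [hconj] at key
        convert mul_mem (mul_mem (hdiv _ hu) (hdiv _ hu')) h0i using 1
        rw [← hr ⟨χ, hχ⟩]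
        field_simp
        linear_combination -key
    have h := hout ⟨χ, hχ⟩ χ
    simp only [hr ⟨χ, hχ⟩] at h
    have h' : 4 * ∑ u ∈ Fourier.out b.1, r ⟨χ, hχ⟩ u = 3 * (n : ℝ) * (q ⟨χ, hχ⟩ χ : ℝ) := by
      exact_mod_cast h
    rw [Finset.sum_coe_sort (Fourier.out b.1) (fun u => r ⟨χ, hχ⟩ u)] at hle
    have hco : (4 : ℝ) * (Fourier.out b.1).card = 3 * n := by exact_mod_cast hcardout
    have hq3 : (q ⟨χ, hχ⟩ χ : ℝ) ≤ 3 := by
      have := hq4 ⟨χ, hχ⟩
      exact_mod_cast Int.lt_add_one_iff.mp (show q ⟨χ, hχ⟩ χ < 3 + 1 from this)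
    have hnp : (0 : ℝ) < n := Nat.cast_pos.mpr Fintype.card_pos
    nlinarith
  have hodd : ∀ χ : B, q χ χ.1 = 1 ∨ q χ χ.1 = 3 := by
    intro χ
    have hce : ¬ Even (c χ) := by
      intro he
      refine not_dvd_contribN hM hB χ.2 (hheight _ χ.2) χ.2 ?_
      rw [hheight _ χ.2, hcN χ, pow_succ]
      exact mul_dvd_mul_left _ (by exact_mod_cast even_iff_two_dvd.mp he)
    rw [← hparity χ] at hce
    have h1 := hqpos χ
    have h2 := hq4 χ
    rcases Int.not_even_iff_odd.mp hce with ⟨j, hj⟩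
    omega
  -- the characters with `q = 1` are at most four
  haveI := Fintype.ofFinite B
  set J : Finset B := Finset.univ.filter fun χ => q χ χ.1 = 1 with hJ
  have hJone : ∀ χ ∈ J, ∀ u ∈ Fourier.out b.1, r χ u = 1 := by
    intro χ hχ u hu
    refine Cfsg.Agent.Lib.StarChar.Nilpotent.eq_one_of_sum_le
      (fun i : (Fourier.out b.1 : Finset b.1) => r χ i.1) (fun i => hint χ i.1)
      (fun i => hrpos χ i.1) (hgal χ) ?_ ⟨u, hu⟩
    rw [Fintype.card_coe, Finset.sum_coe_sort (Fourier.out b.1) (fun u => r χ u)]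
    have h := hout χ χ.1
    rw [(Finset.mem_filter.mp hχ).2] at h
    simp only [hr χ] at h
    have h' : 4 * ∑ u ∈ Fourier.out b.1, r χ u = 3 * (n : ℝ) * ((1 : ℤ) : ℝ) := by
      exact_mod_cast h
    have hco : (4 : ℝ) * (Fourier.out b.1).card = 3 * n := by exact_mod_cast hcardout
    push_cast at h'
    linarith
  have hJpair : ∀ χ ∈ J, ∀ χ' ∈ J, |q χ χ'.1| = 1 := by
    intro χ hχ χ' hχ'
    have hn1 : ∀ u ∈ Fourier.out b.1, Complex.normSq (gram hb χ.1 χ'.1 u) = 1 := by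
      intro u hu
      have h := gram_mul_gram hb hψ hab hM (hblk χ.2) χ'.1 u (hfree' u (hout1 u hu))
      rw [hr χ, hr χ', hJone χ hχ u hu, hJone χ' hχ' u hu, Complex.mul_conj] at h
      exact_mod_cast h.trans (by norm_num : ((1 : ℝ) : ℂ) * ((1 : ℝ) : ℂ) = ((1 : ℝ) : ℂ))
    refine Fourier.abs_eq_one hD (hcoef χ χ'.1) (fun u hu => ?_) ?_ hν hν1
    · rw [← sq_le_one_iff₀ (norm_nonneg _), ← Complex.normSq_eq_norm_sq, hn1 u hu]
    · obtain ⟨u, hu⟩ : (Fourier.out b.1).Nonempty := Finset.card_pos.mp (by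
        have : 0 < n := Fintype.card_pos
        omega)
      exact ⟨u, hu, fun e => by simpa [e] using hn1 u hu⟩
  have hJ4 : J.card ≤ 4 := by
    rcases J.eq_empty_or_nonempty with he | ⟨χ, hχ⟩
    · rw [he]; simp
    let ζ : b.1 → ℂ := fun u => if u ∈ Fourier.out b.1 then 4 else 0
    have hζ : Inv b ζ := by
      intro α _ u
      refine if_congr ?_ rfl rfl
      rw [Fourier.mem_out, Fourier.mem_out, not_iff_not]
      constructor
      · rintro ⟨x, hx⟩
        exact ⟨α.symm x, α.injective (by rw [map_pow, α.apply_symm_apply, hx])⟩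
      · rintro ⟨x, rfl⟩
        exact ⟨α x, (map_pow α x 2).symm⟩
    set Θ := starFn χ.1 (fz 2 b ζ) 2 with hΘ
    have hΘc : Cfsg.IsClassFunction G Θ := star_classFunction _ _ (fz_isInv hb hψ hab hζ)
    have h3n : (3 : ℂ) * n ≠ 0 := mul_ne_zero (by norm_num) hn0
    have hip : ∀ χ' : Cfsg.IrrCharacter G,
        Cfsg.classInner Θ (χ' : G → ℂ) = (q χ χ' : ℂ) := by
      intro χ'
      have h := classInner_star_gram hb hψ hab hM (hblk χ.2) χ' hζ inv_one
      rw [star_const, ← hΘ, hE, hcard] at h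
      refine mul_left_cancel₀ h3n (Eq.trans h ?_)
      rw [← hout χ χ', Finset.mul_sum]
      simp only [ζ, Pi.one_apply, map_one, mul_one, mul_ite, mul_zero]
      rw [Finset.sum_ite_mem, Finset.univ_inter]
      exact Finset.sum_congr rfl fun u _ => mul_comm _ _
    have hnorm : Cfsg.classInner Θ Θ = 4 := by
      have h := classInner_star_gram hb hψ hab hM (hblk χ.2) χ.1 hζ hζ
      rw [← hΘ, hE, hcard] at h
      refine mul_left_cancel₀ h3n (Eq.trans h ?_)
      have e : ∀ u, gram hb χ.1 χ.1 u * (ζ u * conj (ζ u)) =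
          if u ∈ Fourier.out b.1 then gram hb χ.1 χ.1 u * 16 else 0 := fun u => by
        simp only [ζ]
        split_ifs <;> simp [map_ofNat] <;> norm_num
      rw [Finset.sum_congr rfl fun u _ => e u, Finset.sum_ite_mem, Finset.univ_inter,
        ← Finset.sum_mul]
      have h1 := hout χ χ.1
      rw [(Finset.mem_filter.mp hχ).2] at h1
      push_cast at h1
      linear_combination (4 : ℂ) * h1
    have hbes := sum_normSq_classInner hΘc
    rw [hnorm] at hbes
    simp only [hip, Complex.normSq_intCast] at hbes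
    have hbes' : ((4 : ℝ)) = ∑ φ : Cfsg.IrrCharacter G, (q χ φ : ℝ) * (q χ φ : ℝ) :=
      Complex.ofReal_injective (by rw [← hbes]; norm_num)
    have hsub : ∑ φ ∈ J.map (Function.Embedding.subtype _), (q χ φ : ℝ) * (q χ φ : ℝ) ≤ 4 :=
      hbes' ▸ Finset.sum_le_sum_of_subset_of_nonneg (Finset.subset_univ _)
        fun φ _ _ => mul_self_nonneg _
    rw [Finset.sum_map, Finset.sum_congr rfl fun χ' hχ' => show
      (q χ (Function.Embedding.subtype _ χ') : ℝ) * (q χ (Function.Embedding.subtype _ χ') : ℝ) = 1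
      by
        have h := hJpair χ hχ χ' hχ'
        rw [Function.Embedding.coe_subtype]
        have h2 : (q χ χ'.1) * (q χ χ'.1) = 1 := by
          rw [← abs_mul_abs_self (q χ χ'.1), h, one_mul]
        exact_mod_cast h2, Finset.sum_const, nsmul_one] at hsub
    exact_mod_cast hsub
  -- the counts
  have hsumq : ∑ χ : B, q χ χ.1 = (n : ℤ) := by
    have h : (4 : ℂ) * ∑ χ : B, ∑ u ∈ Fourier.out b.1, gram hb χ.1 χ.1 u =
        3 * (n : ℂ) * ((∑ χ : B, q χ χ.1 : ℤ) : ℂ) := by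
      push_cast
      rw [Finset.mul_sum, Finset.mul_sum]
      exact Finset.sum_congr rfl fun χ _ => hout χ χ.1
    have he : ∀ u ∈ Fourier.out b.1, ∑ χ : B, gram hb χ.1 χ.1 u = (n : ℂ) := fun u hu => by
      rw [← hcard, ← sum_gram hb hψ hab hM u (hfree' u (hout1 u hu))]
      exact (Finset.sum_subtype (bset B) (fun χ => mem_bset) fun χ => gram hb χ χ u).symm
    rw [Finset.sum_comm, Finset.sum_congr rfl he, Finset.sum_const, nsmul_eq_mul, ← mul_assoc] at h
    rw [show (4 : ℂ) * ((Fourier.out b.1).card : ℂ) = 3 * (n : ℂ) by exact_mod_cast hcardout] at h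
    exact_mod_cast (mul_left_cancel₀ (mul_ne_zero (by norm_num) hn0) h).symm
  have hkl : 3 * (Nat.card B : ℤ) = 3 * (Cfsg.blockRank 2 B : ℤ) + n - 1 := by
    have h1 : ∑ χ ∈ bset B, ∑ u, gram hb χ χ u = (3 * n : ℂ) * Nat.card B := by
      rw [Finset.sum_congr rfl fun χ hχ => by
        rw [sum_gram_eq hb hψ hab hM (hblk (mem_bset.mp hχ)) χ, classInner_self_irr, mul_one,
          hE, hcard], Finset.sum_const, card_bset, nsmul_eq_mul]
      push_cast
      ring
    rw [Finset.sum_comm, ← Finset.add_sum_erase _ _ (Finset.mem_univ (1 : b.1)),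
      Finset.sum_congr rfl fun u hu => (sum_gram hb hψ hab hM u
        (hfree' u (Finset.mem_erase.mp hu).1)).trans (congrArg _ hcard),
      Finset.sum_const, Finset.card_erase_of_mem (Finset.mem_univ _), Finset.card_univ, nsmul_eq_mul,
      Finset.sum_congr rfl fun χ hχ => gram_one hb hψ hab hM (hblk (mem_bset.mp hχ)) χ,
      ← Finset.sum_div, ← Finset.mul_sum, ← Int.cast_sum, sum_contribN_self hM hB, hE, hcard] at h1
    push_cast at h1
    rw [mul_div_assoc, mul_div_cancel_left₀ _ (pow_ne_zero _ (two_ne_zero : (2 : ℂ) ≠ 0))] at h1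
    have hn1 : 1 ≤ n := Fintype.card_pos
    rw [Nat.cast_sub hn1] at h1
    push_cast at h1
    have h2 : (n : ℂ) * (3 * (Cfsg.blockRank 2 B : ℂ) + n - 1) = n * (3 * (Nat.card B : ℂ)) := by
      linear_combination h1
    exact_mod_cast (mul_left_cancel₀ hn0 h2).symm
  have hk4 : (4 : ℤ) ∣ (Nat.card B : ℤ) := by
    haveI := Fintype.ofFinite {χ : Cfsg.IrrCharacter G //
      χ ∈ B ∧ Cfsg.blockHeight 2 B (χ : G → ℂ) = 0}
    obtain ⟨χ₁, nn, -, hunit, hdvd⟩ := Cfsg.Agent.S4978.sum_sq_congr hM hB hd2 le_rfl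
    have hall : ∀ x : {χ : Cfsg.IrrCharacter G // χ ∈ B ∧ Cfsg.blockHeight 2 B (χ : G → ℂ) = 0},
        (nn x.1 : ZMod 4) ^ 2 = 1 := by
      intro x
      obtain ⟨j, hj⟩ := Int.not_even_iff_odd.mp
        (fun he => hunit _ x.2.1 x.2.2 (by exact_mod_cast even_iff_two_dvd.mp he))
      rw [hj]
      push_cast
      generalize (j : ZMod 4) = t
      revert t
      decide
    norm_num at hdvd
    have h4 : ((∑ x : {χ : Cfsg.IrrCharacter G // χ ∈ B ∧
        Cfsg.blockHeight 2 B (χ : G → ℂ) = 0}, nn x.1 ^ 2 : ℤ) : ZMod 4) = 0 :=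
      (ZMod.intCast_zmod_eq_zero_iff_dvd _ 4).mpr hdvd
    push_cast at h4
    rw [Finset.sum_congr rfl fun x _ => hall x, Finset.sum_const, Finset.card_univ, nsmul_one] at h4
    have hk : Fintype.card {χ : Cfsg.IrrCharacter G //
        χ ∈ B ∧ Cfsg.blockHeight 2 B (χ : G → ℂ) = 0} = Nat.card B := by
      rw [← Nat.card_eq_fintype_card]
      exact Nat.card_congr (Equiv.subtypeEquivRight fun χ =>
        ⟨fun h => h.1, fun h => ⟨h, (blockHeight_eq_zero_iff h).mpr (hheight χ h)⟩⟩)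
    rw [hk] at h4
    exact_mod_cast (ZMod.natCast_eq_zero_iff _ 4).mp h4
  have hsplit : ∑ χ : B, q χ χ.1 = 3 * (Fintype.card B : ℤ) - 2 * J.card := by
    have e : ∀ χ : B, q χ χ.1 = 3 - 2 * (if q χ χ.1 = 1 then 1 else 0) := fun χ => by
      rcases hodd χ with h | h <;> simp [h]
    rw [Finset.sum_congr rfl fun χ _ => e χ, Finset.sum_sub_distrib, Finset.sum_const,
      Finset.card_univ, ← Finset.mul_sum, Finset.sum_boole, nsmul_eq_mul, mul_comm]
  rw [hsumq, ← Nat.card_eq_fintype_card] at hsplit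
  have hJ4' : (J.card : ℤ) ≤ 4 := by exact_mod_cast hJ4
  have h4n : (4 : ℤ) ∣ (n : ℤ) := by
    rw [hn4]
    push_cast
    exact dvd_pow_self 4 (by omega)
  obtain ⟨a, ha⟩ := hk4
  obtain ⟨a', ha'⟩ := h4n
  rw [← hn4]
  constructor <;> omega

end Cfsg.Agent.Lib.HomocyclicFree.Block
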